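/-
The automorphism group of the lattice is generated by the monomial group and one further element.
-/
import Cfsg.Agent.Typ.B3

set_option autoImplicit false
set_option maxRecDepth 100000

namespace CA.Co1.Gn

open Cfsg Equiv CA.M24
open scoped Pointwise symmDiff

noncomputable section

local notation "Λ" => leechLattice

def X0 : Subgroup Co0 := Mon ⊔ Subgroup.zpowers xiC

theorem mon_X0 {g : Co0} (h : g ∈ Mon) : g ∈ X0 := Subgroup.mem_sup_left h
theorem xi_X0 : xiC ∈ X0 := Subgroup.mem_sup_right (Subgroup.mem_zpowers _)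

def Rel (x y : Vec) : Prop := x ∈ Λ ∧ ∃ g ∈ X0, Cong (act g x) y

theorem Rel.old {x y : Vec} (h : Rel x y) : M24.Rel x y := let ⟨a, g, _, b⟩ := h; ⟨a, g, b⟩

theorem Rel.mem_right {x y : Vec} (h : Rel x y) : y ∈ Λ := h.old.mem_right

theorem Rel.trans {x y z : Vec} (h : Rel x y) (h' : Rel y z) : Rel x z := by
  obtain ⟨hx, g, g0, hg⟩ := h
  obtain ⟨hy, k, k0, hk⟩ := h'
  exact ⟨hx, k * g, mul_mem k0 g0, by rw [act_mul]; exact (hg.act hy k).trans hk⟩

theorem rel_of_cong {x y : Vec} (hx : x ∈ Λ) (h : Cong x y) : Rel x y :=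
  ⟨hx, 1, one_mem _, by rwa [act_one]⟩

theorem rel_act {x : Vec} (hx : x ∈ Λ) (g : Co0) (h : g ∈ Mon) : Rel x (act g x) := ⟨hx, g, mon_X0 h, Cong.refl _⟩

theorem step_X0 {c s : ℕ} (fl : Bool) (hc : chk c = true) (hs : isC s = true) : stepC c s fl ∈ X0 :=
  mul_mem (mul_mem (by cases fl; exacts [one_mem _, xi_X0]) (mon_X0 (eps_mem_Mon (unmask_mem_Cs hs).1)))
    (mon_X0 (pC_mem_Mon (inv_mem (perm_mem_M24 hc))))

theorem rel_of_linkChk {l : List (ℕ × ℕ × Bool × ℕ)} {T f : ℕ → ℤ} (h : linkChk l T f = true)
    (hf : vecF f ∈ Λ) : Rel (vecF f) (vecF T) := by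
  induction l generalizing f with
  | nil => exact rel_of_cong hf (cong_of_congChk h)
  | cons r l ih =>
    change band _ (band _ (band _ (linkChk l T _))) = true at h
    simp only [band_eq_true] at h
    obtain ⟨h1, h2, h3, h4⟩ := h
    have h5 : Rel (vecF f) (vecF (vecN r.2.2.2)) :=
      ⟨hf, stepC r.1 r.2.1 r.2.2.1, step_X0 _ h1 h2, by rw [act_stepC _ h1 h2 hf]; exact cong_of_congChk h3⟩
    exact h5.trans (ih h4 h5.mem_right)

def Std (x : Vec) : Prop := Rel x 0 ∨ Rel x Spor.vecU ∨ Rel x Spor.vecV ∨ Rel x (e8 none)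

theorem Std.of_rel {x y : Vec} (h : Rel x y) (hy : Std y) : Std x :=
  hy.imp h.trans (Or.imp h.trans (Or.imp h.trans h.trans))

theorem std_of_link {l : List (ℕ × ℕ × Bool × ℕ)} {j : ℕ} {f : ℕ → ℤ} (hj : j < 4)
    (h : linkChk l (tgt j) f = true) (hf : vecF f ∈ Λ) : Std (vecF f) := by
  have := rel_of_linkChk h hf
  have e0 : vecF (tgt 0) = 0 := by decide +kernel
  have e1 : vecF (tgt 1) = Spor.vecU := by decide +kernel
  have e2 : vecF (tgt 2) = Spor.vecV := by decide +kernel
  have e3 : vecF (tgt 3) = e8 none := by decide +kernel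
  obtain rfl | rfl | rfl | rfl : j = 0 ∨ j = 1 ∨ j = 2 ∨ j = 3 := by omega
  · exact Or.inl (e0 ▸ this)
  · exact Or.inr (Or.inl (e1 ▸ this))
  · exact Or.inr (Or.inr (Or.inl (e2 ▸ this)))
  · exact Or.inr (Or.inr (Or.inr (e3 ▸ this)))

def P8 (x : Vec) : Prop := ∀ y ∈ Λ, (∀ i, 8 ∣ y i - x i) → Std y

theorem P8_base {x : Vec} (h0 : Std x) (h1 : Std (x + e8 none)) : P8 x := by
  intro y hy h
  rcases cong_of_eight h with h | h
  · exact h0.of_rel (rel_of_cong hy h)
  · exact h1.of_rel (rel_of_cong hy h)

theorem P8_vac {x : Vec} (h0 : ¬ 8 ∣ ∑ i, x i - 4 * x none) : P8 x := by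
  intro y hy h
  exfalso
  apply h0
  have h1 := eight_dvd_dot hy (odd_mem none)
  have e : dotInt y (fun i => 1 - 4 * ind {none} i) = ∑ i, y i - 4 * y none := by
    simp [dotInt, mul_sub, Finset.sum_sub_distrib, ind, mul_comm]
  have h2 : 8 ∣ ∑ i, (y i - x i) := Finset.dvd_sum fun i _ => h i
  rw [Finset.sum_sub_distrib] at h2
  rw [e] at h1
  have h3 : ∑ i, x i - 4 * x none = (∑ i, y i - 4 * y none) - (∑ i, y i - ∑ i, x i) +
    4 * (y none - x none) := by ring
  rw [h3]
  exact dvd_add (dvd_sub h1 h2) (Dvd.dvd.mul_left (h none) 4)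

theorem P8_move {x x' : Vec} (h : P8 x')
    (H : ∀ y ∈ Λ, (∀ i, 8 ∣ y i - x i) → ∃ y', Rel y y' ∧ ∀ i, 8 ∣ y' i - x' i) : P8 x := by
  intro y hy hyx
  obtain ⟨y', h1, h2⟩ := H y hy hyx
  exact (h y' h1.mem_right h2).of_rel h1

def Q (m : ℤ) (c S : Finset Pt) : Prop := P8 fun i => m + 2 * ind c i + 4 * ind S i

theorem Q_add {m : ℤ} {c S d : Finset Pt} (hd : d ∈ Cs) (h : Q m c (S ∆ d)) : Q m c S := by
  refine P8_move h fun y hy H => ⟨fun i => y i + 4 * ind d i, rel_of_cong hy
    (cong_of_forall (neg_mem (two_ind_mem hd)) fun i => by simp only [Pi.neg_apply]; ring), fun i => ?_⟩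
  have := H i
  simp only [ind_symmDiff]
  omega

theorem Q_smul {m : ℤ} {c S : Finset Pt} {g : Perm Pt} (hg : g ∈ M24) (h : Q m (g • c) (g • S)) :
    Q m c S := by
  refine P8_move h fun y hy H => ⟨_, rel_act hy (pC g) (pC_mem_Mon hg), fun i => ?_⟩
  rw [act_pC hg hy]
  simp only [ind_smul]
  exact H _

theorem Q_sgn0 {c S d : Finset Pt} (hd : d ∈ Cs) (h : Q 0 c (S ∆ (d ∩ c))) : Q 0 c S := by
  refine P8_move h fun y hy H => ⟨_, rel_act hy (eps d) (eps_mem_Mon hd), fun i => ?_⟩
  rw [act_eps hd hy]
  have := H i
  simp only [ind_symmDiff, ← ind_mul_ind]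
  rcases ind_cases d i with ⟨a, b⟩ | ⟨a, b⟩
  · rw [sgn_of_mem _ a, b, one_mul]; omega
  · rw [sgn_of_notMem _ a, b, zero_mul]; omega

theorem Q_compl {c S : Finset Pt} (hc : c ∈ Cs) (h : Q 0 cᶜ S) : Q 0 c S := by
  refine Q_add hc (P8_move h fun y hy H => ⟨fun i => y i + 2 * (1 - 4 * ind {none} i), rel_of_cong hy
    (cong_of_forall (neg_mem (odd_mem none)) fun i => by simp only [Pi.neg_apply]; ring), fun i => ?_⟩)
  have := H i
  simp only [ind_symmDiff, ind_compl] at this ⊢
  omega

theorem Q_sgn1 {c S : Finset Pt} (hc : c ∈ Cs) (h : Q 1 ∅ S) : Q 1 c S := by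
  refine Q_add hc (P8_move h fun y hy H => ⟨_, rel_act hy (eps c) (eps_mem_Mon hc), fun i => ?_⟩)
  rw [act_eps hc hy]
  have := H i
  simp only [ind_symmDiff, ind_empty, Pi.zero_apply] at this ⊢
  rcases ind_cases c i with ⟨a, b⟩ | ⟨a, b⟩ <;> rw [b] at this
  · rw [sgn_of_mem _ a]; omega
  · rw [sgn_of_notMem _ a]
    rw [← ind_mul_ind, b] at this
    omega

theorem Q_inside {c S : Finset Pt} {p : Pt} (h : EvenOn c p) (h0 : Q 0 c (S \ c))
    (h1 : Q 0 c ((S \ c) ∆ {p})) : Q 0 c S := by
  obtain ⟨d, hd, e⟩ := h (S ∩ c) Finset.inter_subset_right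
  have e1 : S ∆ (S ∩ c) = S \ c := by
    ext x
    simp only [Finset.mem_symmDiff, Finset.mem_inter, Finset.mem_sdiff]
    tauto
  refine Q_sgn0 hd ?_
  rcases e with e | e <;> rw [e]
  · rwa [e1]
  · rwa [← symmDiff_assoc, e1]

theorem Q_of_chk {m : ℤ} {c S : ℕ} (l0 : List (ℕ × ℕ × Bool × ℕ)) (j0 : ℕ)
    (l1 : List (ℕ × ℕ × Bool × ℕ)) (j1 : ℕ)
    (h : band (band (blt' j0 4) (blt' j1 4)) (band (lchk (vvF m c S))
      (band (linkChk l0 (tgt j0) (vvF m c S))
        (linkChk l1 (tgt j1) fun i => vvF m c S i + tgt 3 i))) = true) :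
    Q m (unmask c) (unmask S) := by
  simp only [band_eq_true, blt'_eq_true] at h
  obtain ⟨⟨h0, h1⟩, h2, h3, h4⟩ := h
  have e3 : vecF (tgt 3) = e8 none := by decide +kernel
  rw [Q, vv_eq]
  refine P8_base (std_of_link h0 h3 (mem_of_lchk h2)) ?_
  rw [← e3]
  have h5 : vecF (tgt 3) ∈ Λ := by rw [e3]; exact e8_mem none
  exact std_of_link h1 h4 (add_mem (mem_of_lchk h2) h5)

theorem Q_vac {m : ℤ} {c S : ℕ}
    (h : zeq ((sumZ (vvF m c S) - 4 * vvF m c S 23) % 8) 4 = true) : Q m (unmask c) (unmask S) := by
  rw [Q, vv_eq]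
  refine P8_vac ?_
  rw [zeq_eq_true, sumZ_eq] at h
  change ¬ 8 ∣ ∑ i, vvF m c S (idx i) - 4 * vvF m c S 23
  omega

theorem Q_z : Q 0 (unmask 0) (unmask 0) :=
  Q_of_chk [(nat_lit 984818244535754528103549039458486304, nat_lit 0, false, nat_lit 0x808080808080808080808080808080808080808080808080)] 0
    [(nat_lit 984818244535754528103549039458486304, nat_lit 0, false, nat_lit 0x888080808080808080808080808080808080808080808080)] 3 (by decide +kernel)

theorem Q_p : Q 0 (unmask 0) (unmask 8388609) :=
  Q_of_chk [(nat_lit 984818244535754528103549039458486304, nat_lit 0, false, nat_lit 0x848080808080808080808080808080808080808080808084)] 1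
    [(nat_lit 984818244535754528103549039458486304, nat_lit 13938692, false, nat_lit 0x848080808080808080808080808080808080808080808084)] 1 (by decide +kernel)

theorem Q_t : Q 0 (unmask 0) (unmask 8388615) :=
  Q_of_chk [(nat_lit 984818244535754528103549039458486304, nat_lit 4845570, false, nat_lit 0x8c8080808080808080808080808080808080808080848484), (nat_lit 541803183393113034280541628259293328, nat_lit 10350689, true, nat_lit 0x808880808080808080807880808080808080808880808080), (nat_lit 984818244535754528103549039458486304, nat_lit 0, false, nat_lit 0x888080808080808080808080808080808080808080808080)] 3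
    [(nat_lit 541803183393113034280541628259293328, nat_lit 10350689, true, nat_lit 0x808880808080808080807880808080808080808880808080), (nat_lit 984818244535754528103549039458486304, nat_lit 0, false, nat_lit 0x888080808080808080808080808080808080808080808080)] 3 (by decide +kernel)

theorem Q_o0 : Q 0 (unmask 8536111) (unmask 0) :=
  Q_of_chk [(nat_lit 226371560529215367990376362627334211, nat_lit 1984985, true, nat_lit 0x808080808080808080808080808080808080807c80808084), (nat_lit 196065326550792329092421710532126208, nat_lit 13938692, false, nat_lit 0x848080808080808080808080808080808080808080808084)] 1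
    [(nat_lit 149536370402167074529623700179967534, nat_lit 12311907, true, nat_lit 0x848080808080808080808080808080808080808084788484), (nat_lit 984493369334060478447889424982281248, nat_lit 0, false, nat_lit 0x8c8080808080808080808080808080808080808080848484), (nat_lit 541803183393113034280541628259293328, nat_lit 10350689, true, nat_lit 0x808880808080808080807880808080808080808880808080), (nat_lit 984818244535754528103549039458486304, nat_lit 0, false, nat_lit 0x888080808080808080808080808080808080808080808080)] 3 (by decide +kernel)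

theorem Q_o1 : Q 0 (unmask 8536111) (unmask 17) :=
  Q_of_chk [(nat_lit 588403145887554598171400269392843489, nat_lit 8255795, true, nat_lit 0x7f7f7f7f7f8183817f7d81817f817f81817f7d817d7d8383), (nat_lit 984818244535754528103549039458486304, nat_lit 357820, false, nat_lit 0x7b7f7f7f7f7f7f7f7f7f7f7f7f7f7f7f7f7f7f7f7f7f7f7f)] 2
    [(nat_lit 984818244535754528103549039458486304, nat_lit 8536111, false, nat_lit 0x828080808080828080828080808080808080828482828286), (nat_lit 588403145887554598171400269392843489, nat_lit 8255795, true, nat_lit 0x7f7f7f7f7f8183817f7d81817f817f81817f7d817d7d8383), (nat_lit 984818244535754528103549039458486304, nat_lit 357820, false, nat_lit 0x7b7f7f7f7f7f7f7f7f7f7f7f7f7f7f7f7f7f7f7f7f7f7f7f)] 2 (by decide +kernel)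

theorem Q_o2 : Q 0 (unmask 8536111) (unmask 80) :=
  Q_of_chk [(nat_lit 635007523840741180404288118910600771, nat_lit 7592067, true, nat_lit 0x80807e7e82807e7e8280807e8082828282828282807e8082), (nat_lit 982036846909598786274445952763374689, nat_lit 2207772, false, nat_lit 0x8a8080808080828080828080808080808080828082828282), (nat_lit 149536370402167074529623700179967534, nat_lit 12311907, true, nat_lit 0x848080808080808080808080808080808080808084788484), (nat_lit 984493369334060478447889424982281248, nat_lit 0, false, nat_lit 0x8c8080808080808080808080808080808080808080848484), (nat_lit 541803183393113034280541628259293328, nat_lit 10350689, true, nat_lit 0x808880808080808080807880808080808080808880808080), (nat_lit 984818244535754528103549039458486304, nat_lit 0, false, nat_lit 0x888080808080808080808080808080808080808080808080)] 3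
    [(nat_lit 984818244535754528103549039458486304, nat_lit 6100032, false, nat_lit 0x828080808080828080828080808080808084828482828282), (nat_lit 635007523840741180404288118910600771, nat_lit 7592067, true, nat_lit 0x80807e7e82807e7e8280807e8082828282828282807e8082), (nat_lit 982036846909598786274445952763374689, nat_lit 2207772, false, nat_lit 0x8a8080808080828080828080808080808080828082828282), (nat_lit 149536370402167074529623700179967534, nat_lit 12311907, true, nat_lit 0x848080808080808080808080808080808080808084788484), (nat_lit 984493369334060478447889424982281248, nat_lit 0, false, nat_lit 0x8c8080808080808080808080808080808080808080848484), (nat_lit 541803183393113034280541628259293328, nat_lit 10350689, true, nat_lit 0x808880808080808080807880808080808080808880808080), (nat_lit 984818244535754528103549039458486304, nat_lit 0, false, nat_lit 0x888080808080808080808080808080808080808080808080)] 3 (by decide +kernel)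

theorem Q_d0 : Q 0 (unmask 340831) (unmask 0) :=
  Q_of_chk [(nat_lit 810301498086346125320296682023587882, nat_lit 15762208, true, nat_lit 0x827c8080807e7e808080808080827e7e80807e8080808082), (nat_lit 956928700357313440690171390600978720, nat_lit 7241839, false, nat_lit 0x828080808080828080828080808080808080828482828286), (nat_lit 588403145887554598171400269392843489, nat_lit 8255795, true, nat_lit 0x7f7f7f7f7f8183817f7d81817f817f81817f7d817d7d8383), (nat_lit 984818244535754528103549039458486304, nat_lit 357820, false, nat_lit 0x7b7f7f7f7f7f7f7f7f7f7f7f7f7f7f7f7f7f7f7f7f7f7f7f)] 2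
    [(nat_lit 1795248432537898728475572672376535, nat_lit 0, false, nat_lit 0x808080808082808280808282808082828082808282828282), (nat_lit 810301498086346125320296682023587882, nat_lit 15762208, true, nat_lit 0x827c8080807e7e808080808080827e7e80807e8080808082), (nat_lit 956928700357313440690171390600978720, nat_lit 7241839, false, nat_lit 0x828080808080828080828080808080808080828482828286), (nat_lit 588403145887554598171400269392843489, nat_lit 8255795, true, nat_lit 0x7f7f7f7f7f8183817f7d81817f817f81817f7d817d7d8383), (nat_lit 984818244535754528103549039458486304, nat_lit 357820, false, nat_lit 0x7b7f7f7f7f7f7f7f7f7f7f7f7f7f7f7f7f7f7f7f7f7f7f7f)] 2 (by decide +kernel)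

theorem Q_d1 : Q 0 (unmask 340831) (unmask 33) :=
  Q_of_chk [(nat_lit 251434839027959378171930012956741710, nat_lit 8608675, true, nat_lit 0x807e7e808082827a8082828082827e807e807e7e827e807e), (nat_lit 256260050914913882100832045503896628, nat_lit 12382234, false, nat_lit 0x828080808080828080828080808080808084828482828282), (nat_lit 635007523840741180404288118910600771, nat_lit 7592067, true, nat_lit 0x80807e7e82807e7e8280807e8082828282828282807e8082), (nat_lit 982036846909598786274445952763374689, nat_lit 2207772, false, nat_lit 0x8a8080808080828080828080808080808080828082828282), (nat_lit 149536370402167074529623700179967534, nat_lit 12311907, true, nat_lit 0x848080808080808080808080808080808080808084788484), (nat_lit 984493369334060478447889424982281248, nat_lit 0, false, nat_lit 0x8c8080808080808080808080808080808080808080848484), (nat_lit 541803183393113034280541628259293328, nat_lit 10350689, true, nat_lit 0x808880808080808080807880808080808080808880808080), (nat_lit 984818244535754528103549039458486304, nat_lit 0, false, nat_lit 0x888080808080808080808080808080808080808080808080)]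 3
    [(nat_lit 984818244535754528103549039458486304, nat_lit 340831, false, nat_lit 0x808080808082808280808282808082828082848282828286), (nat_lit 251434839027959378171930012956741710, nat_lit 8608675, true, nat_lit 0x807e7e808082827a8082828082827e807e807e7e827e807e), (nat_lit 256260050914913882100832045503896628, nat_lit 12382234, false, nat_lit 0x828080808080828080828080808080808084828482828282), (nat_lit 635007523840741180404288118910600771, nat_lit 7592067, true, nat_lit 0x80807e7e82807e7e8280807e8082828282828282807e8082), (nat_lit 982036846909598786274445952763374689, nat_lit 2207772, false, nat_lit 0x8a8080808080828080828080808080808080828082828282), (nat_lit 149536370402167074529623700179967534, nat_lit 12311907, true, nat_lit 0x848080808080808080808080808080808080808084788484), (nat_lit 984493369334060478447889424982281248, nat_lit 0, false, nat_lit 0x8c8080808080808080808080808080808080808080848484), (nat_lit 541803183393113034280541628259293328, nat_lit 10350689, true, nat_lit 0x808880808080808080807880808080808080808880808080),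 (nat_lit 984818244535754528103549039458486304, nat_lit 0, false, nat_lit 0x888080808080808080808080808080808080808080808080)] 3 (by decide +kernel)

theorem Q_m1 : Q 1 (unmask 0) (unmask 8388608) :=
  Q_of_chk [(nat_lit 984818244535754528103549039458486304, nat_lit 0, false, nat_lit 0x7b7f7f7f7f7f7f7f7f7f7f7f7f7f7f7f7f7f7f7f7f7f7f7f)] 2
    [(nat_lit 982003839889576674713066561976577442, nat_lit 8614557, true, nat_lit 0x86828080808080808080807e80807e807e808280807a787a), (nat_lit 16923713921568352067476305729590988, nat_lit 10305542, false, nat_lit 0x828080808080828080828080808080808080828082828282), (nat_lit 226371560529215367990376362627334211, nat_lit 1984985, true, nat_lit 0x808080808080808080808080808080808080807c80808084), (nat_lit 196065326550792329092421710532126208, nat_lit 13938692, false, nat_lit 0x848080808080808080808080808080808080808080808084)] 1 (by decide +kernel)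

theorem Q_m3 : Q 1 (unmask 0) (unmask 8388611) :=
  Q_of_chk [(nat_lit 504271054224783298036474641117779042, nat_lit 14745558, true, nat_lit 0x80807e8284847e82807c807e7e80807e7e7e82807e80807e), (nat_lit 646632463623084243583176838934467700, nat_lit 1212619, false, nat_lit 0x808080808082808280808282808082828082848282828286), (nat_lit 251434839027959378171930012956741710, nat_lit 8608675, true, nat_lit 0x807e7e808082827a8082828082827e807e807e7e827e807e), (nat_lit 256260050914913882100832045503896628, nat_lit 12382234, false, nat_lit 0x828080808080828080828080808080808084828482828282), (nat_lit 635007523840741180404288118910600771, nat_lit 7592067, true, nat_lit 0x80807e7e82807e7e8280807e8082828282828282807e8082), (nat_lit 982036846909598786274445952763374689, nat_lit 2207772, false, nat_lit 0x8a8080808080828080828080808080808080828082828282), (nat_lit 149536370402167074529623700179967534, nat_lit 12311907, true, nat_lit 0x848080808080808080808080808080808080808084788484), (nat_lit 984493369334060478447889424982281248, nat_lit 0, false, nat_lit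 0x8c8080808080808080808080808080808080808080848484), (nat_lit 541803183393113034280541628259293328, nat_lit 10350689, true, nat_lit 0x808880808080808080807880808080808080808880808080), (nat_lit 984818244535754528103549039458486304, nat_lit 0, false, nat_lit 0x888080808080808080808080808080808080808080808080)] 3
    [(nat_lit 768628977142346550083418796700932642, nat_lit 15063062, true, nat_lit 0x80807e7a80808080787e868080867a828080807c8080807e), (nat_lit 882055520678325569509649132384440746, nat_lit 1302533, false, nat_lit 0x828080808080828080828080808080808080828482828286), (nat_lit 588403145887554598171400269392843489, nat_lit 8255795, true, nat_lit 0x7f7f7f7f7f8183817f7d81817f817f81817f7d817d7d8383), (nat_lit 984818244535754528103549039458486304, nat_lit 357820, false, nat_lit 0x7b7f7f7f7f7f7f7f7f7f7f7f7f7f7f7f7f7f7f7f7f7f7f7f)] 2 (by decide +kernel)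

theorem Q_empty {m : ℤ} (hm : m = 0 ∨ m = 1) (S : Finset Pt) : Q m ∅ S := by
  obtain ⟨d, hd, h⟩ := exists_small_rep S
  obtain ⟨g, hg, e⟩ := exists_small_base h
  refine Q_add hd (Q_smul hg ?_)
  rw [Finset.smul_finset_empty, ← unmask_mask (g • _), ← unmask_zero]
  simp only [List.mem_cons, List.not_mem_nil, or_false] at e
  rcases hm with rfl | rfl <;> rcases e with e | e | e | e | e <;> rw [e]
  exacts [Q_z, Q_vac (by decide +kernel), Q_p, Q_vac (by decide +kernel), Q_t,
    Q_vac (by decide +kernel), Q_m1, Q_vac (by decide +kernel), Q_m3, Q_vac (by decide +kernel)]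

theorem Q_O0 (S : Finset Pt) : Q 0 (unmask O0) S := by
  obtain ⟨d, hd, g, hg, e1, e⟩ := exists_rep_outside_O0 S
  refine Q_add hd (Q_smul hg ?_)
  rw [e1]
  simp only [List.mem_cons, List.not_mem_nil, or_false] at e
  refine Q_inside evenOn_O0 ?_ ?_
  · rw [← unmask_mask (_ \ _)]
    rcases e with e | e | e <;> rw [e]
    exacts [Q_o0, Q_vac (by decide +kernel), Q_o2]
  · rw [← unmask_mask (_ ∆ _), mask_symmDiff, mask_singleton]
    rcases e with e | e | e <;> rw [e]
    exacts [Q_vac (by decide +kernel), Q_o1, Q_vac (by decide +kernel)]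

theorem Q_D0 (S : Finset Pt) : Q 0 (unmask D0) S := by
  obtain ⟨d, hd, e⟩ := evenOn_D0c (S ∩ (unmask D0)ᶜ) Finset.inter_subset_right
  have e1 : (S ∆ d) \ unmask D0 = (S ∩ (unmask D0)ᶜ) ∆ (d ∩ (unmask D0)ᶜ) := by
    rw [Finset.sdiff_eq_inter_compl]
    exact inf_symmDiff_distrib_right S d _
  have e2 : mask ((S ∆ d) \ unmask D0) = 0 ∨ mask ((S ∆ d) \ unmask D0) = 32 := by
    rcases e with e | e <;> rw [e1, e]
    · left; rw [symmDiff_self, Finset.bot_eq_empty, mask_empty]
    · right; rw [symmDiff_symmDiff_cancel_left, mask_singleton]; rfl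
  refine Q_add hd (Q_inside evenOn_D0 ?_ ?_)
  · rw [← unmask_mask (_ \ _)]
    rcases e2 with e | e <;> rw [e]
    exacts [Q_d0, Q_vac (by decide +kernel)]
  · rw [← unmask_mask (_ ∆ _), mask_symmDiff, mask_singleton]
    rcases e2 with e | e <;> rw [e]
    exacts [Q_vac (by decide +kernel), Q_d1]

theorem Q_all {m : ℤ} (hm : m = 0 ∨ m = 1) {c : Finset Pt} (hc : c ∈ Cs) (S : Finset Pt) :
    Q m c S := by
  rcases hm with rfl | rfl
  swap
  · exact Q_sgn1 hc (Q_empty (Or.inr rfl) S)
  have h8 : ∀ c ∈ octads, Q 0 c S := by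
    intro c hc
    obtain ⟨g, hg, e⟩ := octad_transitive hc O0_mem
    exact Q_smul hg (e ▸ Q_O0 _)
  rcases card_of_mem_Cs hc with h | h | h | h | h
  · rw [Finset.card_eq_zero.1 h]; exact Q_empty (Or.inl rfl) S
  · exact h8 c ⟨hc, h⟩
  · obtain ⟨g, hg, e⟩ := dodecad_transitive ⟨hc, h⟩ D0_mem
    exact Q_smul hg (e ▸ Q_D0 _)
  · exact Q_compl hc (h8 _ ⟨compl_mem_Cs hc, by rw [Finset.card_compl, card_Pt, h]⟩)
  · refine Q_compl hc ?_
    rw [Finset.card_eq_zero.1 (show cᶜ.card = 0 by rw [Finset.card_compl, card_Pt, h])]
    exact Q_empty (Or.inl rfl) S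

/-- every class modulo two is conjugate to one of the four standard classes -/
theorem std_of_mem {x : Vec} (hx : x ∈ Λ) : Std x := by
  obtain ⟨m, hm, c, hc, w, h1, -⟩ := leech_cases hx
  refine Q_all hm hc (Finset.univ.filter fun i => w i % 2 = 1) x hx fun i => ?_
  rw [h1]
  beta_reduce
  rcases ind_cases (Finset.univ.filter fun i => w i % 2 = 1) i with ⟨a, b⟩ | ⟨a, b⟩ <;> rw [b] <;>
    rw [Finset.mem_filter_univ] at a <;> omega

theorem rel_e8 {x : Vec} (hx : x ∈ Λ) (h : sqNorm x = 64) : Rel x (e8 none) := by
  rcases std_of_mem hx with h1 | h1 | h1 | h1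
  · have := h1.old.sqNorm_eq h.le (by rw [sqNorm_zero]; norm_num)
    rw [sqNorm_zero] at this; omega
  · have := h1.old.sqNorm_eq h.le (by rw [sqNorm_vecU]; norm_num)
    rw [sqNorm_vecU] at this; omega
  · have := h1.old.sqNorm_eq h.le (by rw [sqNorm_vecV]; norm_num)
    rw [sqNorm_vecV] at this; omega
  · exact h1

theorem X0_top (g : Co0) : g ∈ X0 := by
  obtain ⟨-, k, hk, e⟩ := rel_e8 (act_mem g (e8_mem none)) (by rw [sqNorm_act, sqNorm_e8])
  rw [← act_mul] at e
  simpa using mul_mem (inv_mem hk) (mon_X0 (mem_Mon.2 e))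

end

end CA.Co1.Gn

theorem CA.realizeEqns_Co1_Gen : True := by
  have := @CA.Co1.Gn.Q.eq_1
  have := @CA.Co1.Gn.Q.eq_def
  have := @CA.Co1.Gn.Q.congr_simp
  have := @CA.Co1.Gn.P8.eq_1
  have := @CA.Co1.Gn.P8.eq_def
  have := @CA.Co1.Gn.P8.congr_simp
  have := @CA.Co1.Gn.Rel.eq_1
  have := @CA.Co1.Gn.Rel.eq_def
  have := @CA.Co1.Gn.Rel.congr_simp
  have := @CA.Co1.Gn.Std.eq_1
  have := @CA.Co1.Gn.Std.eq_def
  have := @CA.Co1.Gn.Std.congr_simp
  have := @CA.Co1.Gn.X0.eq_1
  have := @CA.Co1.Gn.X0.eq_def
  have := @CA.Co1.Gn.X0.congr_simp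
  trivial
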